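/-
A smooth irreducible scheme of dimension `d` over a field is smooth of relative dimension `d`.
-/
import Groth.Agent.H8Props.FieldDimSmooth
import Groth.Agent.H8Props.FieldDimEquidim

set_option autoImplicit false
set_option linter.style.haveILetI false

universe u

open CategoryTheory CategoryTheory.Limits AlgebraicGeometry
open Groth.Agent.H8Props.FieldDim

namespace Groth.Agent.H27CurveDiv

theorem smoothOfRelativeDimension_of_dim {k : Type u} [Field k] {X : Scheme.{u}}
    (f : X ⟶ Spec (CommRingCat.of k)) [Smooth f] [IrreducibleSpace X] (d : ℕ)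
    (hd : topologicalKrullDim X = d) : SmoothOfRelativeDimension d f := by
  refine ⟨fun x => ?_⟩
  obtain ⟨U, hU, V, hV, hxV, e, hs⟩ := Smooth.exists_isStandardSmooth f x
  obtain ⟨n, hn⟩ : ∃ n, (f.appLE U V e).hom.IsStandardSmoothOfRelativeDimension n := by
    algebraize [(f.appLE U V e).hom]
    obtain ⟨ι, σ, hσ, hι, ⟨P⟩⟩ := (inferInstance : Algebra.IsStandardSmooth Γ(Spec (CommRingCat.of k), U) Γ(X, V)).out
    exact ⟨P.dimension, ⟨ι, σ, hσ, hι, P, rfl⟩⟩
  refine ⟨U, hU, V, hV, hxV, e, ?_⟩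
  have hUtop : U = ⊤ := eq_top_iff.mpr fun y _ =>
    (Subsingleton.elim (α := PrimeSpectrum k) (f x) y) ▸ e hxV
  subst hUtop
  obtain ⟨p, hp⟩ : x ∈ Set.range hV.fromSpec := by rw [hV.range_fromSpec]; exact hxV
  let φ : CommRingCat.of k ⟶ Γ(X, V) := (Scheme.ΓSpecIso (CommRingCat.of k)).inv ≫ f.appLE ⊤ V e
  have hφ : φ.hom.IsStandardSmoothOfRelativeDimension n :=
    RingHom.isStandardSmoothOfRelativeDimension_respectsIso.2 _
      (Scheme.ΓSpecIso (CommRingCat.of k)).symm.commRingCatIsoToRingEquiv hn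
  haveI : SmoothOfRelativeDimension n (Spec.map φ) :=
    (HasRingHomProperty.Spec_iff (P := @SmoothOfRelativeDimension n)).mpr
      (RingHom.locally_of RingHom.isStandardSmoothOfRelativeDimension_respectsIso _ hφ)
  haveI : Smooth (Spec.map φ) := SmoothOfRelativeDimension.smooth n _
  haveI := hV.isOpenImmersion_fromSpec
  have h0 := localDim_eq_of_smooth (Z := Spec (CommRingCat.of Γ(X, V))) (Spec.map φ) n p
  have h1 := localDim_chart (Spec.map φ) (A := Γ(X, V)) (𝟙 _) p
  have h2 := localDim_chart f (A := Γ(X, V)) hV.fromSpec p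
  rw [hp, localDim_eq_dim_of_irreducible f x, hd] at h2
  have hdn : d = n := by exact_mod_cast (h2.trans h1.symm).trans h0
  rw [hdn]
  exact hn

end Groth.Agent.H27CurveDiv
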