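/-
Effective Cartier divisors on smooth curves over a field are exactly the zero dimensional closed
subschemes.
-/
import Groth.Agent.H29Blow.Stalk
import Groth.Agent.H29Blow.OfStalk
import Groth.Agent.H8Props.FieldDimSmooth
import Groth.Agent.H28Int.Curves
import Groth.Agent.H19Grp.RegularSmooth
import Groth.Agent.H8Props.FlatDimOneBase
import Groth.Agent.H4Depth.Regular

set_option autoImplicit false
set_option linter.style.haveILetI false

universe u

open CategoryTheory CategoryTheory.Limits AlgebraicGeometry TopologicalSpace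
open H29Blow

namespace Groth.Agent.H27CurveDiv

variable {k : Type u} [Field k] {Y : Scheme.{u}} (g : Y ⟶ Spec (CommRingCat.of k))
  [SmoothOfRelativeDimension 1 g]

include g in
lemma isLocallyNoetherian_curve : IsLocallyNoetherian Y := by
  haveI : Smooth g := SmoothOfRelativeDimension.smooth 1 g
  exact LocallyOfFiniteType.isLocallyNoetherian g

include g in
lemma dim_stalk_le_one (x : Y) : ringKrullDim (Y.presheaf.stalk x) ≤ 1 := by
  haveI : Smooth g := SmoothOfRelativeDimension.smooth 1 g
  have h := (H8Props.FieldDim.localDim_eq_stalk_add_cdim g x).symm.trans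
    (H8Props.FieldDim.localDim_eq_of_smooth g 1 x)
  have hc : (0 : WithBot ℕ∞) ≤ H8Props.FieldDim.cdim x := by
    haveI : Nonempty (IrreducibleCloseds (closure ({x} : Set Y))) :=
      ⟨⟨closure {⟨x, subset_closure rfl⟩}, isIrreducible_singleton.closure, isClosed_closure⟩⟩
    exact Order.krullDim_nonneg
  calc ringKrullDim (Y.presheaf.stalk x)
      = ringKrullDim (Y.presheaf.stalk x) + 0 := (add_zero _).symm
    _ ≤ _ := add_le_add le_rfl hc
    _ = 1 := by rw [h]; rfl

include g in
lemma dim_stalk_of_isClosed {x : Y} (hx : IsClosed ({x} : Set Y)) :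
    ringKrullDim (Y.presheaf.stalk x) = 1 := by
  haveI : Smooth g := SmoothOfRelativeDimension.smooth 1 g
  have h := (H8Props.FieldDim.localDim_eq_stalk_add_cdim g x).symm.trans
    (H8Props.FieldDim.localDim_eq_of_smooth g 1 x)
  rw [H28Int.Curves.cdim_closed hx, Nat.cast_zero, add_zero] at h
  simpa using h

include g in
/-- An effective Cartier divisor on a smooth curve is quasi-finite over the field. -/
theorem locallyQuasiFinite_of_cartier {I : Y.IdealSheafData} (hI : BlowUp.IsEffCartierIdeal I) :
    LocallyQuasiFinite (I.subschemeι ≫ g) := by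
  haveI : Smooth g := SmoothOfRelativeDimension.smooth 1 g
  haveI := isLocallyNoetherian_curve g
  haveI : IsLocallyNoetherian I.subscheme :=
    LocallyOfFiniteType.isLocallyNoetherian I.subschemeι
  have hdim : ∀ d : I.subscheme, ringKrullDim (I.subscheme.presheaf.stalk d) ≤ 0 := by
    intro d
    have h := (depth_dim_stalk_subscheme I hI d).2
    have h1 := dim_stalk_le_one g (I.subschemeι d)
    rw [← h] at h1
    exact ENat.WithBot.add_le_add_one_right_iff.mp (by rwa [zero_add])
  rw [locallyQuasiFinite_iff_isDiscrete_preimage_singleton]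
  intro s
  haveI : DiscreteTopology I.subscheme := by
    rw [discreteTopology_iff_isOpen_singleton]
    intro d
    obtain ⟨V, hV, hdV, -⟩ := exists_isAffineOpen_mem_and_subset (Opens.mem_top d)
    haveI : IsNoetherianRing Γ(I.subscheme, V) := IsLocallyNoetherian.component_noetherian ⟨V, hV⟩
    haveI : Ring.KrullDimLE 0 Γ(I.subscheme, V) := by
      rw [Ring.krullDimLE_iff]
      refine (ringKrullDim_le_iff_isMaximal_height_le (0 : WithBot ℕ∞)).mpr fun m hm => ?_
      let p : PrimeSpectrum Γ(I.subscheme, V) := ⟨m, hm.isPrime⟩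
      have h2 := @H8Props.FieldDim.ringKrullDim_stalk_chart I.subscheme Γ(I.subscheme, V) _
        hV.fromSpec hV.isOpenImmersion_fromSpec p
      exact h2.symm.le.trans (hdim _)
    haveI : IsArtinianRing Γ(I.subscheme, V) := IsNoetherianRing.isArtinianRing_of_krullDimLE_zero
    haveI : DiscreteTopology (PrimeSpectrum Γ(I.subscheme, V)) := inferInstance
    obtain ⟨p, hp⟩ := hV.range_fromSpec.superset hdV
    rw [← hp, ← Set.image_singleton]
    exact hV.fromSpec.isOpenEmbedding.isOpenMap _ (isOpen_discrete _)
  exact (IsDiscrete.univ).mono (Set.subset_univ _)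

include g in
/-- A quasi-finite closed subscheme of a smooth curve is an effective Cartier divisor. -/
theorem cartier_of_locallyQuasiFinite (I : Y.IdealSheafData)
    [LocallyQuasiFinite (I.subschemeι ≫ g)] : BlowUp.IsEffCartierIdeal I := by
  haveI : Smooth g := SmoothOfRelativeDimension.smooth 1 g
  haveI := isLocallyNoetherian_curve g
  haveI hdisc : DiscreteTopology I.subscheme := by
    have h := (I.subschemeι ≫ g).isDiscrete_preimage_singleton
      (IsLocalRing.closedPoint k)
    have hu : (I.subschemeι ≫ g) ⁻¹' {IsLocalRing.closedPoint k} = Set.univ :=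
      Set.eq_univ_of_forall fun d => Subsingleton.elim (α := PrimeSpectrum k) _ _
    exact isDiscrete_univ_iff.mp (hu ▸ h)
  refine isEffCartierIdeal_of_stalk I fun x V hx => ?_
  by_cases hs : x ∈ I.support
  swap
  · exact ⟨1, one_mem _, by rw [map_germ_eq_top_of_notMem_support I x V hx hs, Ideal.span_singleton_one]⟩
  obtain ⟨d, rfl⟩ : x ∈ Set.range I.subschemeι := by
    rw [Scheme.IdealSheafData.range_subschemeι]; exact hs
  have hclosed : IsClosed ({I.subschemeι d} : Set Y) := by
    rw [← Set.image_singleton]
    exact I.subschemeι.isClosedEmbedding.isClosedMap _ (isClosed_discrete _)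
  have hdim := dim_stalk_of_isClosed g hclosed
  haveI := H19Grp.isRegularLocalRing_stalk_of_smooth g (I.subschemeι d)
  haveI := H4Depth.isDomain_of_isRegularLocalRing (Y.presheaf.stalk (I.subschemeι d))
  haveI := H8Props.FlatDimOneBase.isPrincipalIdealRing_of_dim_le_one
    (Y.presheaf.stalk (I.subschemeι d)) hdim.le
  rw [← ker_stalkMap_subschemeι I d V hx]
  obtain ⟨a, ha⟩ := (IsPrincipalIdealRing.principal
    (RingHom.ker (I.subschemeι.stalkMap d).hom)).principal
  refine ⟨a, mem_nonZeroDivisors_of_ne_zero ?_, ha⟩
  rintro rfl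
  rw [Submodule.span_singleton_eq_bot.mpr rfl] at ha
  let e := RingEquiv.ofBijective (I.subschemeι.stalkMap d).hom
    ⟨(RingHom.injective_iff_ker_eq_bot _).mpr ha, I.subschemeι.stalkMap_surjective d⟩
  have h1 : ringKrullDim (I.subscheme.presheaf.stalk d) = 1 :=
    (ringKrullDim_eq_of_ringEquiv e).symm.trans hdim
  haveI : Subsingleton (PrimeSpectrum (I.subscheme.presheaf.stalk d)) := by
    have hinj := (I.subscheme.fromSpecStalk d).isEmbedding.injective
    refine ⟨fun p q => hinj ?_⟩
    have key : ∀ r, (I.subscheme.fromSpecStalk d) r = d := by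
      intro r
      have hr : I.subscheme.fromSpecStalk d r ⤳ d := by
        have := Scheme.range_fromSpecStalk.subset (Set.mem_range_self r)
        exact this
      exact hr.eq
    rw [key, key]
  haveI : Nonempty (PrimeSpectrum (I.subscheme.presheaf.stalk d)) :=
    ⟨IsLocalRing.closedPoint _⟩
  rw [ringKrullDim, Order.krullDim_eq_zero] at h1
  exact absurd h1 (by norm_num)

end Groth.Agent.H27CurveDiv
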