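/-
Relative effective Cartier divisors on smooth relative curves are exactly the quasi-finite flat
finitely presented closed subschemes.
-/
import Groth.Agent.H27CurveDiv.Field
import Groth.Agent.H13Cartier.Relative
import Groth.Agent.H19Grp.PiClosedGlobal
import Groth.Agent.H7Lim.IdealExtension
import Groth.Agent.S8847

set_option autoImplicit false
set_option linter.style.haveILetI false

universe u

open CategoryTheory CategoryTheory.Limits AlgebraicGeometry TopologicalSpace
open H29Blow

namespace Groth.Agent.H27CurveDiv

variable {X S : Scheme.{u}} (f : X ⟶ S) (I : X.IdealSheafData)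

/-- An effective Cartier divisor is locally of finite presentation. -/
theorem locallyOfFinitePresentation_cartier (hI : BlowUp.IsEffCartierIdeal I) :
    LocallyOfFinitePresentation I.subschemeι := by
  refine H19Grp.locallyOfFinitePresentation_subschemeι I fun W => ?_
  refine H7Lim.fg_of_cover W.2 _ fun y hy => ?_
  obtain ⟨V, hyV, hVW, a, -, haV⟩ := exists_gen hI (W := W.1) (x := y) hy
  obtain ⟨g, hgle, hyg⟩ := W.2.exists_basicOpen_le ⟨y, hyV⟩ hy
  refine ⟨g, hyg, ?_⟩
  have h2 : (I.ideal W).map (X.presheaf.map (homOfLE (X.basicOpen_le g)).op).hom =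
      I.ideal (X.affineBasicOpen g) := I.map_ideal (U := X.affineBasicOpen g) (V := W) (X.basicOpen_le g)
  have h3 : (I.ideal V).map (X.presheaf.map (homOfLE hgle).op).hom =
      I.ideal (X.affineBasicOpen g) := I.map_ideal (U := X.affineBasicOpen g) (V := V) hgle
  have h4 : (I.ideal (X.affineBasicOpen g)).FG := by
    rw [← h3]
    exact (haV ▸ Submodule.fg_span_singleton a : (I.ideal V).FG).map _
  rw [← h2] at h4
  exact h4

/-- The fibre of a closed subscheme, as a base change. -/
theorem isPullback_fibre (s : S) : ∃ t, IsPullback t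
    ((I.comap (f.fiberι s)).subschemeι ≫ f.fiberToSpecResidueField s)
    (I.subschemeι ≫ f) (S.fromSpecResidueField s) := by
  have h1 : IsPullback (f.fiberι s) (f.fiberToSpecResidueField s) f (S.fromSpecResidueField s) :=
    IsPullback.of_hasPullback _ _
  have h2 : IsPullback ((I.comapIso (f.fiberι s)).hom ≫ pullback.snd _ _)
      (I.comap (f.fiberι s)).subschemeι I.subschemeι (f.fiberι s) := by
    refine (IsPullback.of_hasPullback (f.fiberι s) I.subschemeι).flip.of_iso
      (I.comapIso (f.fiberι s)).symm (Iso.refl _) (Iso.refl _) (Iso.refl _) ?_ ?_ ?_ ?_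
    · simp only [Iso.symm_hom, Iso.refl_hom, Category.comp_id, Iso.inv_hom_id_assoc]
    · simp [Scheme.IdealSheafData.comapIso_inv_subschemeι]
    · simp
    · simp
  exact ⟨_, h2.paste_vert h1⟩

/-- The characterisation. -/
theorem cartier_iff [SmoothOfRelativeDimension 1 f] :
    (BlowUp.IsEffCartierIdeal I ∧ Flat (I.subschemeι ≫ f)) ↔
      (LocallyQuasiFinite (I.subschemeι ≫ f) ∧ Flat (I.subschemeι ≫ f) ∧
        LocallyOfFinitePresentation (I.subschemeι ≫ f)) := by
  haveI : Smooth f := SmoothOfRelativeDimension.smooth 1 f
  haveI := smoothOfRelativeDimension_isStableUnderBaseChange.{u} (n := 1)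
  have hsm : ∀ s : S, SmoothOfRelativeDimension 1 (f.fiberToSpecResidueField s) := fun s =>
    MorphismProperty.pullback_snd (P := @SmoothOfRelativeDimension 1) _ _ inferInstance
  constructor
  · rintro ⟨hI, hfl⟩
    haveI := locallyOfFinitePresentation_cartier I hI
    haveI hlfp : LocallyOfFinitePresentation (I.subschemeι ≫ f) := inferInstance
    refine ⟨?_, hfl, hlfp⟩
    haveI : ∀ s, LocallyQuasiFinite ((I.subschemeι ≫ f).fiberToSpecResidueField s) := by
      intro s
      haveI := hsm s
      have hI' : BlowUp.IsEffCartierIdeal (I.comap (f.fiberι s)) :=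
        H13Cartier.isEffCartierIdeal_comap_of_relative (IsPullback.of_hasPullback _ _) hI
      have h := locallyQuasiFinite_of_cartier (k := S.residueField s)
        (f.fiberToSpecResidueField s) hI'
      obtain ⟨t, ht⟩ := isPullback_fibre f I s
      have e : (I.subschemeι ≫ f).fiberToSpecResidueField s = ht.isoPullback.inv ≫
          (I.comap (f.fiberι s)).subschemeι ≫ f.fiberToSpecResidueField s :=
        (ht.isoPullback_inv_snd).symm
      rw [e]
      exact MorphismProperty.RespectsIso.precomp @LocallyQuasiFinite _ _ h
    exact LocallyQuasiFinite.of_fiberToSpecResidueField (f := I.subschemeι ≫ f) inferInstance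
  · rintro ⟨hq, hfl, hlfp⟩
    refine ⟨?_, hfl⟩
    refine S8847.result f I fun s => ?_
    haveI := hsm s
    obtain ⟨t, ht⟩ := isPullback_fibre f I s
    haveI : LocallyQuasiFinite ((I.comap (f.fiberι s)).subschemeι ≫ f.fiberToSpecResidueField s) :=
      MorphismProperty.of_isPullback ht hq
    exact cartier_of_locallyQuasiFinite (k := S.residueField s) (f.fiberToSpecResidueField s) _

end Groth.Agent.H27CurveDiv
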