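/-
The degree of a sum of relative effective Cartier divisors on a smooth relative curve.
-/
import Groth.Agent.H27CurveDiv.Relative
import Groth.Agent.H22Alg.FiniteDegree
import Groth.Agent.H22Alg.CycBasic
import Groth.Agent.H3CAlg.ProdPt
import Groth.Agent.H3CAlg.IntLocal
import Groth.Agent.H8Props.FibreStalk
import Groth.Prelude.Def_IntMult

set_option autoImplicit false
set_option linter.style.haveILetI false

universe u

open CategoryTheory CategoryTheory.Limits AlgebraicGeometry IsLocalRing
open H29Blow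

namespace Groth.Agent.H27CurveDiv

variable {X S : Scheme.{u}} (f : X ⟶ S)

/-- The ideal of the fibre in a local ring. -/
noncomputable abbrev fibreIdeal (x : X) : Ideal (X.presheaf.stalk x) :=
  (maximalIdeal (S.presheaf.stalk (f x))).map (f.stalkMap x).hom

/-- The length of a closed subscheme of `X` at a point of a fibre. -/
noncomputable def len (I : X.IdealSheafData) (x : X) : ℕ :=
  (Module.length (X.presheaf.stalk x)
    (X.presheaf.stalk x ⧸ (IntMult.stalkIdeal I x ⊔ fibreIdeal f x))).toNat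

theorem length_quot_map {B B' : Type u} [CommRing B] [CommRing B'] (σ : B →+* B')
    (hσ : Function.Surjective σ) (J : Ideal B) :
    Module.length B' (B' ⧸ J.map σ) = Module.length B (B ⧸ (RingHom.ker σ ⊔ J)) := by
  letI := σ.toAlgebra
  rw [← Module.length_eq_of_surjective (S := B) (R := B') (M := B' ⧸ J.map σ) hσ]
  let l : B →ₗ[B] (B' ⧸ J.map σ) :=
    ((Ideal.Quotient.mkₐ B (J.map σ)).comp (Algebra.ofId B B')).toLinearMap
  have hl : Function.Surjective l := Ideal.Quotient.mk_surjective.comp hσ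
  have hk : LinearMap.ker l = RingHom.ker σ ⊔ J := by
    rw [sup_comm, ← Ideal.comap_map_of_surjective' σ hσ]
    ext a
    exact Ideal.Quotient.eq_zero_iff_mem
  exact ((Submodule.quotEquivOfEq _ _ hk.symm).trans (l.quotKerEquivOfSurjective hl)).length_eq.symm

/-- The stalk of an ideal sheaf is the image of the ideal of any affine neighbourhood. -/
theorem stalkIdeal_eq (I : X.IdealSheafData) (x : X) (U : X.affineOpens) (hx : x ∈ U.1) :
    IntMult.stalkIdeal I x = (I.ideal U).map (X.presheaf.germ U.1 x hx).hom := by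
  by_cases hs : x ∈ I.support
  · obtain ⟨d, rfl⟩ := H3CAlg.IntLocal.exists_point I hs
    rw [H3CAlg.IntLocal.stalkIdeal_eq_ker, ker_stalkMap_subschemeι I d U hx]
  · rw [map_germ_eq_top_of_notMem_support I x U hx hs, eq_top_iff,
      ← map_germ_eq_top_of_notMem_support I x U hx hs]
    exact le_iSup₂_of_le U hx le_rfl

theorem stalkIdeal_mul (I J : X.IdealSheafData) (x : X) :
    IntMult.stalkIdeal (I * J) x = IntMult.stalkIdeal I x * IntMult.stalkIdeal J x := by
  obtain ⟨U, hU, hxU, -⟩ := exists_isAffineOpen_mem_and_subset (show x ∈ (⊤ : X.Opens) from trivial)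
  rw [stalkIdeal_eq _ x ⟨U, hU⟩ hxU, stalkIdeal_eq _ x ⟨U, hU⟩ hxU, stalkIdeal_eq _ x ⟨U, hU⟩ hxU,
    ← Ideal.map_mul]
  rfl

theorem exists_stalk_gen {I : X.IdealSheafData} (hI : BlowUp.IsEffCartierIdeal I) (x : X) :
    ∃ a ∈ nonZeroDivisors (X.presheaf.stalk x), IntMult.stalkIdeal I x = Ideal.span {a} := by
  obtain ⟨V, hV, -, a, ha, haV⟩ := exists_gen hI (W := ⊤) (x := x) trivial
  letI := X.presheaf.algebra_section_stalk (⟨x, hV⟩ : V.1)
  haveI := V.2.isLocalization_stalk ⟨x, hV⟩
  haveI : Module.Flat Γ(X, V.1) (X.presheaf.stalk x) :=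
    IsLocalization.flat _ (V.2.primeIdealOf ⟨x, hV⟩).asIdeal.primeCompl
  refine ⟨algebraMap Γ(X, V.1) (X.presheaf.stalk x) a,
    mem_nonZeroDivisors_map_of_flat (RingHom.flat_algebraMap_iff.mpr inferInstance) ha, ?_⟩
  rw [stalkIdeal_eq I x V hV, haV, Ideal.map_span, Set.image_singleton]
  rfl

/-- A generator of a divisor flat over the base stays regular on the fibre. -/
theorem mk_mem_nonZeroDivisors {I : X.IdealSheafData} [Flat (I.subschemeι ≫ f)] {x : X}
    {a : X.presheaf.stalk x} (ha : a ∈ nonZeroDivisors (X.presheaf.stalk x))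
    (hI : IntMult.stalkIdeal I x = Ideal.span {a}) :
    Ideal.Quotient.mk (fibreIdeal f x) a ∈
      nonZeroDivisors (X.presheaf.stalk x ⧸ fibreIdeal f x) := by
  by_cases hs : x ∈ I.support
  swap
  · obtain ⟨U, hU, hxU, -⟩ := exists_isAffineOpen_mem_and_subset (show x ∈ (⊤ : X.Opens) from trivial)
    have : IsUnit a := by
      rw [← Ideal.span_singleton_eq_top, ← hI, stalkIdeal_eq I x ⟨U, hU⟩ hxU]
      exact map_germ_eq_top_of_notMem_support I x ⟨U, hU⟩ hxU hs
    exact (this.map _).mem_nonZeroDivisors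
  letI : Algebra (S.presheaf.stalk (f x)) (X.presheaf.stalk x) := (f.stalkMap x).hom.toAlgebra
  haveI : Module.Flat (S.presheaf.stalk (f x)) (X.presheaf.stalk x ⧸ Ideal.span {a}) := by
    rw [← hI]
    exact H3CAlg.ProdPt.flat_quotient f I hs
  refine mem_nonZeroDivisors_iff_right.mpr fun m hm => ?_
  obtain ⟨m, rfl⟩ := Ideal.Quotient.mk_surjective m
  rw [← map_mul, Ideal.Quotient.eq_zero_iff_mem] at hm
  rw [Ideal.Quotient.eq_zero_iff_mem]
  have h := H29Slice.inf_map_le_of_flat_quotient (Ideal.span {a})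
    (maximalIdeal (S.presheaf.stalk (f x)))
    ⟨Ideal.mul_mem_left _ _ (Ideal.mem_span_singleton_self a), hm⟩
  obtain ⟨c, hc, hca⟩ := Ideal.mem_mul_span_singleton.mp h
  rw [← (mul_cancel_right_mem_nonZeroDivisors ha).mp hca]
  exact hc

/-- The local rings of the fibres of a smooth curve have dimension at most one. -/
theorem krullDimLE_quot [SmoothOfRelativeDimension 1 f] (x : X) :
    Ring.KrullDimLE 1 (X.presheaf.stalk x ⧸ fibreIdeal f x) ∧
      IsNoetherianRing (X.presheaf.stalk x ⧸ fibreIdeal f x) := by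
  haveI := smoothOfRelativeDimension_isStableUnderBaseChange.{u} (n := 1)
  haveI : SmoothOfRelativeDimension 1 (f.fiberToSpecResidueField (f x)) :=
    MorphismProperty.pullback_snd (P := @SmoothOfRelativeDimension 1) _ _ inferInstance
  let e := H8Props.FibreStalk.asFiberStalkEquiv f x
  haveI := isLocallyNoetherian_curve (k := S.residueField (f x)) (f.fiberToSpecResidueField (f x))
  refine ⟨?_, isNoetherianRing_of_ringEquiv _ e.symm⟩
  rw [Ring.krullDimLE_iff, ringKrullDim_eq_of_ringEquiv e]
  exact_mod_cast dim_stalk_le_one (k := S.residueField (f x)) (f.fiberToSpecResidueField (f x)) _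

theorem length_eq_ord {I : X.IdealSheafData} {x : X} {a : X.presheaf.stalk x}
    (hI : IntMult.stalkIdeal I x = Ideal.span {a}) :
    Module.length (X.presheaf.stalk x)
        (X.presheaf.stalk x ⧸ (IntMult.stalkIdeal I x ⊔ fibreIdeal f x)) =
      Ring.ord (X.presheaf.stalk x ⧸ fibreIdeal f x) (Ideal.Quotient.mk (fibreIdeal f x) a) := by
  have h := length_quot_map (Ideal.Quotient.mk (fibreIdeal f x)) Ideal.Quotient.mk_surjective
    (Ideal.span {a})
  rw [Ideal.map_span, Set.image_singleton, Ideal.mk_ker, sup_comm] at h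
  rw [hI]
  exact h.symm

theorem len_mul [SmoothOfRelativeDimension 1 f] {I J : X.IdealSheafData}
    (hI : BlowUp.IsEffCartierIdeal I) (hJ : BlowUp.IsEffCartierIdeal J)
    [Flat (I.subschemeι ≫ f)] [Flat (J.subschemeι ≫ f)] (x : X) :
    len f (I * J) x = len f I x + len f J x := by
  obtain ⟨a, ha, hIa⟩ := exists_stalk_gen hI x
  obtain ⟨b, hb, hJb⟩ := exists_stalk_gen hJ x
  have hab : IntMult.stalkIdeal (I * J) x = Ideal.span {a * b} := by
    rw [stalkIdeal_mul, hIa, hJb, Ideal.span_singleton_mul_span_singleton]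
  obtain ⟨hdim, hnoeth⟩ := krullDimLE_quot f x
  have ha' := mk_mem_nonZeroDivisors f ha hIa
  have hb' := mk_mem_nonZeroDivisors f hb hJb
  rw [len, len, len, length_eq_ord f hab, length_eq_ord f hIa, length_eq_ord f hJb, map_mul,
    Ring.ord_mul _ hb', ENat.toNat_add (Ring.ord_ne_top ha') (Ring.ord_ne_top hb')]

theorem len_eq_zero_of_notMem {I : X.IdealSheafData} {x : X} (hx : x ∉ I.support) :
    len f I x = 0 := by
  obtain ⟨U, hU, hxU, -⟩ := exists_isAffineOpen_mem_and_subset (show x ∈ (⊤ : X.Opens) from trivial)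
  haveI : Subsingleton (X.presheaf.stalk x ⧸ (IntMult.stalkIdeal I x ⊔ fibreIdeal f x)) := by
    rw [Submodule.Quotient.subsingleton_iff, stalkIdeal_eq I x ⟨U, hU⟩ hxU,
      map_germ_eq_top_of_notMem_support I x ⟨U, hU⟩ hxU hx, top_sup_eq]
  rw [len, Module.length_eq_zero, ENat.toNat_zero]

theorem residueDegree_immersion {Y : Scheme.{u}} (i : Y ⟶ X) [IsPreimmersion i] (y : Y) :
    i.residueDegree y = 1 := by
  have hsurj : Function.Surjective (i.residueFieldMap y).hom := by
    intro a
    obtain ⟨b, rfl⟩ := IsLocalRing.residue_surjective a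
    obtain ⟨c, rfl⟩ := i.stalkMap_surjective y b
    exact ⟨IsLocalRing.residue _ c, rfl⟩
  letI : Algebra (X.residueField (i y)) (Y.residueField y) := (i.residueFieldMap y).hom.toAlgebra
  refine Eq.trans ?_ (Module.finrank_self (X.residueField (i y)))
  exact (LinearEquiv.finrank_eq (AlgEquiv.ofBijective (Algebra.ofId _ _)
    ⟨(algebraMap (X.residueField (i y)) (Y.residueField y)).injective, hsurj⟩).toLinearEquiv).symm

theorem mult_eq_len (I : X.IdealSheafData) (d : I.subscheme) :
    H22Alg.FiniteDegree.mult (I.subschemeι ≫ f) d = len f I (I.subschemeι d) := by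
  have h := length_quot_map (I.subschemeι.stalkMap d).hom (I.subschemeι.stalkMap_surjective d)
    (fibreIdeal f (I.subschemeι d))
  rw [H22Alg.FiniteDegree.mult, len, H3CAlg.IntLocal.stalkIdeal_eq_ker, ← h, fibreIdeal,
    Ideal.map_map, Scheme.Hom.stalkMap_comp]
  rfl

theorem finrank_eq_finsum (I : X.IdealSheafData) [IsFinite (I.subschemeι ≫ f)]
    [Flat (I.subschemeι ≫ f)] (y : S) :
    (I.subschemeι ≫ f).finrank y = ∑ᶠ x ∈ f ⁻¹' {y}, len f I x * f.residueDegree x := by
  rw [← H22Alg.FiniteDegree.finsum_fibre_eq_finrank (I.subschemeι ≫ f) y]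
  have h1 : ∀ d : I.subscheme, H22Alg.FiniteDegree.mult (I.subschemeι ≫ f) d *
      (I.subschemeι ≫ f).residueDegree d =
        len f I (I.subschemeι d) * f.residueDegree (I.subschemeι d) := fun d => by
    rw [mult_eq_len, H22Alg.CycBasic.residueDegree_comp, residueDegree_immersion I.subschemeι, mul_one]
  simp only [h1]
  rw [← finsum_mem_image (f := fun x => len f I x * f.residueDegree x)
    I.subschemeι.isClosedEmbedding.injective.injOn]
  refine finsum_mem_inter_support_eq' _ _ _ fun x hx => ⟨?_, fun hxy => ?_⟩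
  · rintro ⟨d, hd, rfl⟩
    exact hd
  · have : x ∈ I.support := by
      by_contra h
      exact hx (by simp [len_eq_zero_of_notMem f h])
    obtain ⟨d, rfl⟩ := H3CAlg.IntLocal.exists_point I this
    exact ⟨d, hxy, rfl⟩

theorem finite_fibre_inter_support (I : X.IdealSheafData) [IsFinite (I.subschemeι ≫ f)] (y : S) :
    (f ⁻¹' {y} ∩ Function.support fun x => len f I x * f.residueDegree x).Finite := by
  refine Set.Finite.subset (((I.subschemeι ≫ f).finite_preimage_singleton y).image I.subschemeι) ?_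
  rintro x ⟨hxy, hx⟩
  have : x ∈ I.support := by
    by_contra h
    exact hx (by simp [len_eq_zero_of_notMem f h])
  obtain ⟨d, rfl⟩ := H3CAlg.IntLocal.exists_point I this
  exact ⟨d, hxy, rfl⟩

/-- Degrees add. -/
theorem finrank_mul [SmoothOfRelativeDimension 1 f] {I J : X.IdealSheafData}
    (hI : BlowUp.IsEffCartierIdeal I) (hJ : BlowUp.IsEffCartierIdeal J)
    [Flat (I.subschemeι ≫ f)] [Flat (J.subschemeι ≫ f)] [IsFinite (I.subschemeι ≫ f)]
    [IsFinite (J.subschemeι ≫ f)] [IsFinite ((I * J).subschemeι ≫ f)]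
    [Flat ((I * J).subschemeι ≫ f)] (y : S) :
    ((I * J).subschemeι ≫ f).finrank y =
      (I.subschemeι ≫ f).finrank y + (J.subschemeι ≫ f).finrank y := by
  rw [finrank_eq_finsum, finrank_eq_finsum, finrank_eq_finsum,
    ← finsum_mem_add_distrib' (finite_fibre_inter_support f I y) (finite_fibre_inter_support f J y)]
  refine finsum_mem_congr rfl fun x _ => ?_
  rw [len_mul f hI hJ, add_mul]

end Groth.Agent.H27CurveDiv
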