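/-
Sums and differences of relative effective Cartier divisors on a smooth relative curve.
-/
import Groth.Agent.H27CurveDiv.Degree
import Groth.Agent.H17.Separated
import Groth.Agent.H7Flat.FiniteExtend
import Groth.Agent.S1710
import Groth.Agent.S1702

set_option autoImplicit false
set_option linter.style.haveILetI false

universe u

open CategoryTheory CategoryTheory.Limits AlgebraicGeometry
open H29Blow

namespace Groth.Agent.H27CurveDiv

variable {X S : Scheme.{u}} (f : X ⟶ S)

/-- The ideals of an effective Cartier divisor are finitely generated. -/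
theorem fg_cartier {I : X.IdealSheafData} (hI : BlowUp.IsEffCartierIdeal I) (W : X.affineOpens) :
    (I.ideal W).FG := by
  refine H7Lim.fg_of_cover W.2 _ fun y hy => ?_
  obtain ⟨V, hyV, hVW, a, -, haV⟩ := exists_gen hI (W := W.1) (x := y) hy
  obtain ⟨g, hgle, hyg⟩ := W.2.exists_basicOpen_le ⟨y, hyV⟩ hy
  refine ⟨g, hyg, ?_⟩
  have h2 : (I.ideal W).map (X.presheaf.map (homOfLE (X.basicOpen_le g)).op).hom =
      I.ideal (X.affineBasicOpen g) := I.map_ideal (U := X.affineBasicOpen g) (V := W) (X.basicOpen_le g)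
  have h3 : (I.ideal V).map (X.presheaf.map (homOfLE hgle).op).hom =
      I.ideal (X.affineBasicOpen g) := I.map_ideal (U := X.affineBasicOpen g) (V := V) hgle
  have h4 : (I.ideal (X.affineBasicOpen g)).FG := by
    rw [← h3]
    exact (haV ▸ Submodule.fg_span_singleton a : (I.ideal V).FG).map _
  rw [← h2] at h4
  exact h4

/-- A divisor contained in another is a summand of it. -/
theorem exists_eq_mul {I₁ I₂ : X.IdealSheafData} (h₁ : BlowUp.IsEffCartierIdeal I₁) (hle : I₂ ≤ I₁) :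
    ∃ K : X.IdealSheafData, I₁ * K = I₂ := by
  classical
  let K : ∀ U : X.affineOpens, Ideal Γ(X, U) := fun U => (I₂.ideal U).colon (I₁.ideal U : Set _)
  have hK : ∀ (U : X.affineOpens) (r : Γ(X, U)), r ∈ K U ↔ ∀ p ∈ I₁.ideal U, r * p ∈ I₂.ideal U :=
    fun U r => Submodule.mem_colon
  refine ⟨{ ideal := K, map_ideal_basicOpen := fun U g => ?_ }, ?_⟩
  · set W := X.affineBasicOpen g
    set ρ : Γ(X, U.1) →+* Γ(X, X.basicOpen g) := (X.presheaf.map (homOfLE (X.basicOpen_le g)).op).hom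
    letI : Algebra Γ(X, U.1) Γ(X, X.basicOpen g) := ρ.toAlgebra
    haveI : IsLocalization.Away g Γ(X, X.basicOpen g) := U.2.isLocalization_basicOpen g
    let J₁ : Ideal Γ(X, X.basicOpen g) := I₁.ideal W
    let J₂ : Ideal Γ(X, X.basicOpen g) := I₂.ideal W
    let KW : Ideal Γ(X, X.basicOpen g) := K W
    have e₁ : (I₁.ideal U).map ρ = J₁ := I₁.map_ideal_basicOpen U g
    have e₂ : (I₂.ideal U).map ρ = J₂ := I₂.map_ideal_basicOpen U g
    have hKW : ∀ r : Γ(X, X.basicOpen g), r ∈ KW ↔ ∀ p ∈ J₁, r * p ∈ J₂ := hK W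
    change (K U).map ρ = KW
    refine le_antisymm (Ideal.map_le_iff_le_comap.mpr fun r hr => (hKW _).mpr fun p hp => ?_)
      fun r hr => ?_
    · rw [← e₁] at hp
      induction hp using Submodule.span_induction with
      | mem p hp =>
        obtain ⟨p, hp, rfl⟩ := hp
        rw [← map_mul, ← e₂]
        exact Ideal.mem_map_of_mem _ ((hK U r).mp hr p hp)
      | zero => simp
      | add p q _ _ hp hq => rw [mul_add]; exact add_mem hp hq
      | smul c p _ hp => rw [smul_eq_mul, mul_left_comm]; exact Ideal.mul_mem_left _ c hp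
    · obtain ⟨⟨r, s⟩, hrs⟩ := IsLocalization.surj (Submonoid.powers g) r
      obtain ⟨t, ht⟩ := fg_cartier h₁ U
      have h : ∀ i ∈ t, ∃ m ∈ Submonoid.powers g, m * (r * i) ∈ I₂.ideal U := fun i hi => by
        refine (IsLocalization.algebraMap_mem_map_algebraMap_iff (Submonoid.powers g) Γ(X, X.basicOpen g) _ _).mp ?_
        change ρ (r * i) ∈ (I₂.ideal U).map ρ
        rw [e₂, map_mul]
        refine (hKW _).mp ?_ _ (e₁ ▸ Ideal.mem_map_of_mem ρ (ht ▸ Ideal.subset_span hi))
        rw [show ρ r = _ from hrs.symm]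
        exact Ideal.mul_mem_right _ _ hr
      choose! m hm hmr using h
      let M := ∏ i ∈ t, m i
      have hM : M ∈ Submonoid.powers g := prod_mem hm
      have hMr : M * r ∈ K U := by
        refine (hK U _).mpr fun p hp => ?_
        rw [← ht] at hp
        induction hp using Submodule.span_induction with
        | mem p hp =>
          obtain ⟨d, hd⟩ := Finset.dvd_prod_of_mem m hp
          rw [show M * r * p = d * (m p * (r * p)) by rw [show M = m p * d from hd]; ring]
          exact Ideal.mul_mem_left _ d (hmr p hp)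
        | zero => simp
        | add p q _ _ hp hq => rw [mul_add]; exact add_mem hp hq
        | smul c p _ hp => rw [smul_eq_mul, mul_left_comm]; exact Ideal.mul_mem_left _ c hp
      have hu : IsUnit (ρ M) := IsLocalization.map_units Γ(X, X.basicOpen g) (⟨M, hM⟩ : Submonoid.powers g)
      have hs : IsUnit (ρ (s : Γ(X, U.1))) := IsLocalization.map_units Γ(X, X.basicOpen g) s
      have h5 := Ideal.mem_map_of_mem ρ hMr
      rw [map_mul, Ideal.unit_mul_mem_iff_mem _ hu, show ρ r = _ from hrs.symm] at h5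
      exact (Ideal.mul_unit_mem_iff_mem _ hs).mp h5
  · refine ext_of_forall_exists fun x => ?_
    obtain ⟨V, hxV, -, a, -, haV⟩ := exists_gen h₁ (W := ⊤) (x := x) trivial
    refine ⟨V, hxV, le_antisymm ?_ ?_⟩
    · rw [Scheme.IdealSheafData.ideal_mul, Pi.mul_apply, Ideal.mul_le]
      intro p hp r hr
      rw [mul_comm]
      exact (hK V r).mp hr p hp
    · intro q hq
      rw [Scheme.IdealSheafData.ideal_mul, Pi.mul_apply, haV, Ideal.mem_span_singleton_mul]
      obtain ⟨c, rfl⟩ := Ideal.mem_span_singleton'.mp (haV ▸ hle V hq)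
      refine ⟨c, (hK V c).mpr fun p hp => ?_, mul_comm a c⟩
      obtain ⟨d, rfl⟩ := Ideal.mem_span_singleton'.mp (haV ▸ hp)
      rw [mul_left_comm]
      exact Ideal.mul_mem_left _ d hq

/-- The sum of two finite subschemes is finite as soon as it is quasi-finite. -/
theorem isFinite_mul (I J : X.IdealSheafData) [IsFinite (I.subschemeι ≫ f)]
    [IsFinite (J.subschemeι ≫ f)] [LocallyQuasiFinite ((I * J).subschemeι ≫ f)]
    [LocallyOfFiniteType ((I * J).subschemeι ≫ f)] : IsFinite ((I * J).subschemeι ≫ f) := by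
  have hI : I * J ≤ I := fun U => Ideal.mul_le_left
  have hJ : I * J ≤ J := fun U => Ideal.mul_le_right
  let π : I.subscheme ⨿ J.subscheme ⟶ (I * J).subscheme :=
    coprod.desc (Scheme.IdealSheafData.inclusion hI) (Scheme.IdealSheafData.inclusion hJ)
  have hcomp : π ≫ (I * J).subschemeι ≫ f = coprod.desc (I.subschemeι ≫ f) (J.subschemeι ≫ f) := by
    apply coprod.hom_ext <;> simp [π]
  haveI hfin : IsFinite (π ≫ (I * J).subschemeι ≫ f) := by
    rw [hcomp]; exact H7Flat.FiniteExtend.isFinite_coprodDesc _ _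
  haveI : IsClosedImmersion (Scheme.IdealSheafData.inclusion hI) :=
    IsClosedImmersion.of_comp _ (I * J).subschemeι
  haveI : IsClosedImmersion (Scheme.IdealSheafData.inclusion hJ) :=
    IsClosedImmersion.of_comp _ (I * J).subschemeι
  haveI : IsFinite π := H7Flat.FiniteExtend.isFinite_coprodDesc _ _
  haveI : Surjective π := ⟨fun z => by
    have hz : (I * J).subschemeι z ∈ (I * J).support := by
      rw [← SetLike.mem_coe, ← Scheme.IdealSheafData.range_subschemeι]; exact ⟨z, rfl⟩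
    rw [Scheme.IdealSheafData.support_mul] at hz
    rcases hz with hz | hz
    · obtain ⟨d, hd⟩ := H3CAlg.IntLocal.exists_point I hz
      refine ⟨(coprod.inl : I.subscheme ⟶ I.subscheme ⨿ J.subscheme) d,
        (I * J).subschemeι.isEmbedding.injective ?_⟩
      rw [← hd]
      simp only [π, ← Scheme.Hom.comp_apply, coprod.inl_desc, Scheme.IdealSheafData.inclusion_subschemeι]
    · obtain ⟨d, hd⟩ := H3CAlg.IntLocal.exists_point J hz
      refine ⟨(coprod.inr : J.subscheme ⟶ I.subscheme ⨿ J.subscheme) d,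
        (I * J).subschemeι.isEmbedding.injective ?_⟩
      rw [← hd]
      simp only [π, ← Scheme.Hom.comp_apply, coprod.inr_desc, Scheme.IdealSheafData.inclusion_subschemeι]⟩
  haveI : IsSeparated ((I * J).subschemeι ≫ f) := H17.isSeparated_of_surjective_universallyClosed π _
  haveI : UniversallyClosed ((I * J).subschemeι ≫ f) := UniversallyClosed.of_comp_surjective π _
  haveI : IsProper ((I * J).subschemeι ≫ f) := {}
  exact IsFinite.of_isProper_of_locallyQuasiFinite _

/-- The sum of two relative effective divisors of degrees `d₁`, `d₂` has degree `d₁ + d₂`. -/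
theorem finLocFreeOfDeg_mul [SmoothOfRelativeDimension 1 f] {I J : X.IdealSheafData} {d₁ d₂ : ℕ}
    (h₁ : Mor2.IsFinLocFreeOfDeg d₁ (I.subschemeι ≫ f))
    (h₂ : Mor2.IsFinLocFreeOfDeg d₂ (J.subschemeι ≫ f)) :
    Mor2.IsFinLocFreeOfDeg (d₁ + d₂) ((I * J).subschemeι ≫ f) := by
  obtain ⟨⟨hf₁, hfl₁, hp₁⟩, hd₁⟩ := h₁
  obtain ⟨⟨hf₂, hfl₂, hp₂⟩, hd₂⟩ := h₂
  have c₁ := (cartier_iff f I).mpr ⟨inferInstance, hfl₁, hp₁⟩
  have c₂ := (cartier_iff f J).mpr ⟨inferInstance, hfl₂, hp₂⟩
  have c := S1702.result f I J c₁ c₂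
  obtain ⟨hq, hfl, hp⟩ := (cartier_iff f (I * J)).mp c
  haveI := hfl
  have hfin := isFinite_mul f I J
  refine ⟨⟨hfin, hfl, hp⟩, fun y => ?_⟩
  rw [finrank_mul f c₁.1 c₂.1, hd₁, hd₂]

/-- The difference of two nested relative effective divisors. -/
theorem exists_finLocFreeOfDeg_sub [SmoothOfRelativeDimension 1 f] {I₁ I₂ : X.IdealSheafData}
    {d₁ d₂ : ℕ} (hle : I₂ ≤ I₁) (h₁ : Mor2.IsFinLocFreeOfDeg d₁ (I₁.subschemeι ≫ f))
    (h₂ : Mor2.IsFinLocFreeOfDeg d₂ (I₂.subschemeι ≫ f)) :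
    ∃ I : X.IdealSheafData, Mor2.IsFinLocFreeOfDeg (d₂ - d₁) (I.subschemeι ≫ f) ∧ I₂ = I₁ * I := by
  obtain ⟨⟨hf₁, hfl₁, hp₁⟩, hd₁⟩ := h₁
  obtain ⟨⟨hf₂, hfl₂, hp₂⟩, hd₂⟩ := h₂
  have c₁ := (cartier_iff f I₁).mpr ⟨inferInstance, hfl₁, hp₁⟩
  have c₂ := (cartier_iff f I₂).mpr ⟨inferInstance, hfl₂, hp₂⟩
  obtain ⟨K, rfl⟩ := exists_eq_mul c₁.1 hle
  have hK : BlowUp.IsEffCartierIdeal K := isEffCartierIdeal_right_of_mul c₂.1
  have hKfl : Flat (K.subschemeι ≫ f) := S1710.result f I₁ (I₁ * K) K c₁ c₂ hK rfl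
  obtain ⟨-, -, hKp⟩ := (cartier_iff f K).mp ⟨hK, hKfl⟩
  have hle' : I₁ * K ≤ K := fun U => Ideal.mul_le_right
  haveI : IsClosedImmersion (Scheme.IdealSheafData.inclusion hle') :=
    IsClosedImmersion.of_comp _ (I₁ * K).subschemeι
  haveI hKfin : IsFinite (K.subschemeι ≫ f) := by
    rw [← Scheme.IdealSheafData.inclusion_subschemeι hle', Category.assoc]
    infer_instance
  refine ⟨K, ⟨⟨hKfin, hKfl, hKp⟩, fun y => ?_⟩, rfl⟩
  haveI := hKfl
  have h := finrank_mul f c₁.1 hK y
  rw [hd₁, hd₂] at h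
  omega

end Groth.Agent.H27CurveDiv
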