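/-
A relative divisor on a smooth relative curve is a sum of sections after an fppf base change.
-/
import Groth.Agent.H27CurveDiv.SumDiff
import Groth.Agent.H27HilbOne.Basic

set_option autoImplicit false
set_option linter.style.haveILetI false

universe u

open CategoryTheory CategoryTheory.Limits AlgebraicGeometry
open H29Blow

namespace Groth.Agent.H27CurveDiv

/-- The base change of the ideal of a section is the ideal of the section. -/
theorem comap_ker_section {C S C' S' : Scheme.{u}} {f : C ⟶ S} [IsSeparated f] {f' : C' ⟶ S'}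
    {g : C' ⟶ C} {b : S' ⟶ S} (H : IsPullback g f' f b) (s : S ⟶ C) (hs : s ≫ f = 𝟙 S) :
    ∃ s' : S' ⟶ C', s' ≫ f' = 𝟙 S' ∧ s.ker.comap g = s'.ker := by
  haveI : IsClosedImmersion (s ≫ f) := by rw [hs]; infer_instance
  haveI : IsClosedImmersion s := IsClosedImmersion.of_comp s f
  let s' : S' ⟶ C' := H.lift (b ≫ s) (𝟙 S') (by rw [Category.assoc, hs, Category.comp_id, Category.id_comp])
  have h1 : s' ≫ f' = 𝟙 S' := H.lift_snd _ _ _
  have h2 : s' ≫ g = b ≫ s := H.lift_fst _ _ _
  refine ⟨s', h1, ?_⟩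
  have houter : IsPullback b (s' ≫ f') (s ≫ f) b := by
    rw [h1, hs]
    exact IsPullback.of_vert_isIso ⟨by simp⟩
  have hsq : IsPullback b s' s g := IsPullback.of_bot houter h2.symm H
  rw [← Scheme.IdealSheafData.ker_fst_of_isClosedImmersion, ← hsq.flip.isoPullback_hom_fst,
    Scheme.Hom.ker_comp_of_isIso]

/-- The base change of a relative divisor. -/
theorem divOfDeg_comap {C S C' S' : Scheme.{u}} {f : C ⟶ S} {f' : C' ⟶ S'} {g : C' ⟶ C} {b : S' ⟶ S}
    (H : IsPullback g f' f b) {d : ℕ} {I : C.IdealSheafData}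
    (hI : Mor2.IsFinLocFreeOfDeg d (I.subschemeι ≫ f)) :
    Mor2.IsFinLocFreeOfDeg d ((I.comap g).subschemeι ≫ f') := by
  have h2 : IsPullback ((I.comapIso g).hom ≫ pullback.snd _ _) (I.comap g).subschemeι I.subschemeι g := by
    refine (IsPullback.of_hasPullback g I.subschemeι).flip.of_iso
      (I.comapIso g).symm (Iso.refl _) (Iso.refl _) (Iso.refl _) ?_ ?_ ?_ ?_
    · simp only [Iso.symm_hom, Iso.refl_hom, Category.comp_id, Iso.inv_hom_id_assoc]
    · simp [Scheme.IdealSheafData.comapIso_inv_subschemeι]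
    · simp
    · simp
  have h := h2.paste_vert H
  obtain ⟨⟨hf, hfl, hp⟩, hd⟩ := hI
  refine ⟨⟨MorphismProperty.of_isPullback h hf, MorphismProperty.of_isPullback h hfl,
    MorphismProperty.of_isPullback h hp⟩, fun y => ?_⟩
  rw [Scheme.Hom.finrank_of_isPullback _ _ _ _ h y, hd]

/-- A relative divisor of degree `d` is a sum of `d` sections over an fppf cover of the base. -/
theorem exists_fppf_prod_sections : ∀ (d : ℕ) {C S : Scheme.{u}} (f : C ⟶ S)
    [SmoothOfRelativeDimension 1 f] [IsSeparated f] (I : C.IdealSheafData),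
    Mor2.IsFinLocFreeOfDeg d (I.subschemeι ≫ f) →
      ∃ (S' : Scheme.{u}) (b : S' ⟶ S), Flat b ∧ Surjective b ∧ LocallyOfFinitePresentation b ∧
        ∃ σ : Fin d → (S' ⟶ pullback f b), (∀ i, σ i ≫ pullback.snd f b = 𝟙 S') ∧
          I.comap (pullback.fst f b) = ∏ i, (σ i).ker := by
  intro d
  induction d with
  | zero =>
    intro C S f _ _ I hI
    refine ⟨S, 𝟙 S, inferInstance, inferInstance, inferInstance, Fin.elim0, fun i => i.elim0, ?_⟩
    have hI' : I = ⊤ := by
      obtain ⟨⟨hfin, hfl, hp⟩, hd⟩ := hI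
      rw [← Scheme.IdealSheafData.support_eq_bot_iff]
      refine TopologicalSpace.Closeds.ext (Set.eq_empty_iff_forall_notMem.mpr fun x hx => ?_)
      obtain ⟨z, -⟩ := H3CAlg.IntLocal.exists_point I hx
      have := Scheme.Hom.one_le_finrank_map (I.subschemeι ≫ f) z
      rw [hd] at this
      omega
    rw [hI', Scheme.IdealSheafData.comap_top, Finset.univ_eq_empty, Finset.prod_empty]
    rfl
  | succ d ih =>
    intro C S f _ _ I hI
    haveI := smoothOfRelativeDimension_isStableUnderBaseChange.{u} (n := 1)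
    obtain ⟨⟨hfin, hfl, hp⟩, hd⟩ := id hI
    haveI := hfl; haveI := hfin; haveI := hp
    let b₁ : I.subscheme ⟶ S := I.subschemeι ≫ f
    haveI : Surjective b₁ := by
      rw [← Scheme.Hom.one_le_finrank_iff_surjective]
      intro y
      rw [hd]
      exact Nat.le_add_left 1 d
    haveI : SmoothOfRelativeDimension 1 (pullback.snd f b₁) :=
      MorphismProperty.pullback_snd _ _ inferInstance
    have hI₁ := divOfDeg_comap (IsPullback.of_hasPullback f b₁) hI
    let s : I.subscheme ⟶ pullback f b₁ :=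
      pullback.lift I.subschemeι (𝟙 _) (by simp [b₁])
    have hs : s ≫ pullback.snd f b₁ = 𝟙 _ := pullback.lift_snd _ _ _
    haveI : IsIso (s ≫ pullback.snd f b₁) := by rw [hs]; infer_instance
    haveI : IsClosedImmersion s := IsClosedImmersion.of_comp s (pullback.snd f b₁)
    have hJ : Mor2.IsFinLocFreeOfDeg 1 (s.ker.subschemeι ≫ pullback.snd f b₁) := by
      have h : IsIso (s.ker.subschemeι ≫ pullback.snd f b₁) := by
        have h' : s.toImage ≫ s.imageι ≫ pullback.snd f b₁ = 𝟙 _ := by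
          rw [Scheme.Hom.toImage_imageι_assoc, hs]
        have h'' : s.imageι ≫ pullback.snd f b₁ = inv s.toImage := by
          rw [← cancel_epi s.toImage, h', IsIso.hom_inv_id]
        change IsIso (s.imageι ≫ pullback.snd f b₁)
        rw [h'']
        infer_instance
      exact H27HilbOne.isFinLocFreeOfDeg_one_of_isIso _
    have hle : I.comap (pullback.fst f b₁) ≤ s.ker := by
      rw [← Scheme.IdealSheafData.le_map_iff_comap_le, Scheme.IdealSheafData.map_ker,
        show s ≫ pullback.fst f b₁ = I.subschemeι from pullback.lift_fst _ _ _,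
        Scheme.IdealSheafData.ker_subschemeι]
    obtain ⟨K, hK, hKe⟩ := exists_finLocFreeOfDeg_sub (pullback.snd f b₁) hle hJ hI₁
    rw [Nat.add_sub_cancel] at hK
    obtain ⟨S₂, b₂, hb₂f, hb₂s, hb₂p, σ, hσ, hσe⟩ := ih (pullback.snd f b₁) K hK
    refine ⟨S₂, b₂ ≫ b₁, inferInstance, inferInstance, inferInstance, ?_⟩
    let e := pullbackLeftPullbackSndIso f b₁ b₂
    have he1 : e.inv ≫ pullback.fst _ _ ≫ pullback.fst f b₁ = pullback.fst f (b₂ ≫ b₁) :=
      pullbackLeftPullbackSndIso_inv_fst _ _ _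
    have he2 : e.inv ≫ pullback.snd (pullback.snd f b₁) b₂ = pullback.snd f (b₂ ≫ b₁) :=
      pullbackLeftPullbackSndIso_inv_snd_snd _ _ _
    have He : IsPullback e.inv (pullback.snd f (b₂ ≫ b₁)) (pullback.snd (pullback.snd f b₁) b₂) (𝟙 _) :=
      IsPullback.of_horiz_isIso ⟨by rw [he2, Category.comp_id]⟩
    obtain ⟨s₂, hs₂, hs₂e⟩ := comap_ker_section
      (IsPullback.of_hasPullback (pullback.snd f b₁) b₂) s hs
    have key : ∀ t : S₂ ⟶ pullback (pullback.snd f b₁) b₂, t ≫ pullback.snd _ _ = 𝟙 _ →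
        ∃ t' : S₂ ⟶ pullback f (b₂ ≫ b₁), t' ≫ pullback.snd _ _ = 𝟙 _ ∧ t.ker.comap e.inv = t'.ker :=
      fun t ht => comap_ker_section He t ht
    choose τ hτ hτe using fun i : Fin (d + 1) =>
      key ((Fin.cons s₂ σ : Fin (d + 1) → _) i)
        (by refine Fin.cases ?_ ?_ i <;> simp [hs₂, hσ])
    refine ⟨τ, hτ, ?_⟩
    rw [← he1, Scheme.IdealSheafData.comap_comp, Scheme.IdealSheafData.comap_comp, hKe,
      comap_mul, hs₂e, hσe, Fin.prod_univ_succ]
    simp only [← hτe, Fin.cons_zero, Fin.cons_succ]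
    rw [comap_mul]
    congr 1
    classical
    induction (Finset.univ : Finset (Fin d)) using Finset.induction with
    | empty => rw [Finset.prod_empty, Finset.prod_empty]; exact Scheme.IdealSheafData.comap_top _
    | insert a t ha hrec => rw [Finset.prod_insert ha, Finset.prod_insert ha, comap_mul, hrec]

end Groth.Agent.H27CurveDiv
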