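/-
Flags of relative divisors on a smooth relative curve and their edge data.
-/
import Groth.Agent.H27CurveDiv.SumDiff
import Groth.Prelude.Def_W4c6dblnestedhilbptsFlags

set_option autoImplicit false
set_option linter.style.haveILetI false

universe u

open CategoryTheory CategoryTheory.Limits AlgebraicGeometry
open H29Blow

namespace Groth.Agent.H27CurveDiv

variable {X S : Scheme.{u}} (f : X ⟶ S) [SmoothOfRelativeDimension 1 f]

theorem isEffCartierIdeal_of_divOfDeg {d : ℕ} {I : X.IdealSheafData}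
    (h : HilbD.IsDivOfDeg f d I) : BlowUp.IsEffCartierIdeal I := by
  obtain ⟨⟨hf, hfl, hp⟩, -⟩ := h
  exact ((cartier_iff f I).mpr ⟨inferInstance, hfl, hp⟩).1

omit f in
/-- An effective Cartier ideal can be cancelled. -/
theorem eq_of_mul_eq_mul {A B C : X.IdealSheafData} (hA : BlowUp.IsEffCartierIdeal A)
    (h : A * B = A * C) : B = C := by
  refine ext_of_forall_exists fun x => ?_
  obtain ⟨V, hxV, -, a, ha, haV⟩ := exists_gen hA (W := ⊤) (x := x) trivial
  refine ⟨V, hxV, ?_⟩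
  have h' : Ideal.span {a} * B.ideal V = Ideal.span {a} * C.ideal V := by
    rw [← haV]
    exact congrArg (fun J : X.IdealSheafData => J.ideal V) h
  ext r
  have key : ∀ (P : Ideal Γ(X, V.1)), r ∈ P ↔ a * r ∈ Ideal.span {a} * P := fun P => by
    rw [Ideal.mem_span_singleton_mul]
    exact ⟨fun hr => ⟨r, hr, rfl⟩, fun ⟨z, hz, hzr⟩ =>
      (mul_cancel_left_mem_nonZeroDivisors ha).mp hzr ▸ hz⟩
  rw [key, key, h']

/-- Nested relative divisors of the same degree are equal. -/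
theorem eq_of_le_of_divOfDeg {d : ℕ} {I J : X.IdealSheafData} (hle : I ≤ J)
    (hI : HilbD.IsDivOfDeg f d I) (hJ : HilbD.IsDivOfDeg f d J) : I = J := by
  obtain ⟨K, hK, rfl⟩ := exists_finLocFreeOfDeg_sub f hle hJ hI
  rw [Nat.sub_self] at hK
  obtain ⟨⟨hfin, hfl, hp⟩, hd⟩ := hK
  haveI := hfl; haveI := hp; haveI := hfin
  have hK' : K = ⊤ := by
    rw [← Scheme.IdealSheafData.support_eq_bot_iff]
    refine TopologicalSpace.Closeds.ext (Set.eq_empty_iff_forall_notMem.mpr fun x hx => ?_)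
    obtain ⟨z, -⟩ := H3CAlg.IntLocal.exists_point K hx
    have := Scheme.Hom.one_le_finrank_map (K.subschemeι ≫ f) z
    rw [hd] at this
    omega
  rw [hK', Scheme.IdealSheafData.mul_top]

variable {μ : YoungDiagram} {n : ℕ × ℕ → ℕ}

/-- A flag has exactly one system of edge data, which satisfies the commutation relations. -/
theorem existsUnique_edgeData (h00 : ((0, 0) : ℕ × ℕ) ∈ μ) (hn : HilbD.IsRevPlanePartition μ n)
    {Z : ∀ c : ℕ × ℕ, c ∈ μ → X.IdealSheafData} (hZ : HilbD.IsDnFlag f μ n Z) :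
    (∃! E : HilbD.DnEdgeData μ X, E.IsOfType f n ∧ E.IsEdgesOf h00 Z) ∧
      ∀ E : HilbD.DnEdgeData μ X, E.IsOfType f n → E.IsEdgesOf h00 Z →
        ∀ (c : ℕ × ℕ) (hc : c ∈ μ) (hi : 1 ≤ c.1) (hj : 1 ≤ c.2),
          E.gammaOne c hc hi hj = E.gammaTwo c hc hi hj := by
  have hcart : ∀ c hc, BlowUp.IsEffCartierIdeal (Z c hc) := fun c hc =>
    isEffCartierIdeal_of_divOfDeg f (hZ.1 c hc)
  have hv : ∀ (c : ℕ × ℕ) (hc : c ∈ μ), ∃ V : X.IdealSheafData,
      HilbD.IsDivOfDeg f (n c - n (c.1 - 1, c.2)) V ∧ Z c hc = Z (c.1 - 1, c.2) (HilbD.mem_up hc) * V :=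
    fun c hc => exists_finLocFreeOfDeg_sub f (hZ.2 _ _ _ hc ⟨Nat.sub_le c.1 1, le_rfl⟩) (hZ.1 _ _) (hZ.1 c hc)
  have hh : ∀ (c : ℕ × ℕ) (hc : c ∈ μ), ∃ V : X.IdealSheafData,
      HilbD.IsDivOfDeg f (n c - n (c.1, c.2 - 1)) V ∧ Z c hc = Z (c.1, c.2 - 1) (HilbD.mem_left hc) * V :=
    fun c hc => exists_finLocFreeOfDeg_sub f (hZ.2 _ _ _ hc ⟨le_rfl, Nat.sub_le c.2 1⟩) (hZ.1 _ _) (hZ.1 c hc)
  choose V hVd hVe using hv
  choose W hWd hWe using hh
  refine ⟨⟨⟨Z (0, 0) h00, fun c hc _ => V c hc, fun c hc _ => W c hc⟩,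
    ⟨⟨hZ.1 _ _, fun c hc _ => hVd c hc, fun c hc _ => hWd c hc⟩,
      rfl, fun c hc _ => hVe c hc, fun c hc _ => hWe c hc⟩, ?_⟩, ?_⟩
  · rintro E ⟨-, hb, hev, heh⟩
    apply HilbD.DnEdgeData.ext
    · exact hb.symm
    · funext c hc hi
      exact eq_of_mul_eq_mul (hcart _ _) ((hev c hc hi).symm.trans (hVe c hc))
    · funext c hc hj
      exact eq_of_mul_eq_mul (hcart _ _) ((heh c hc hj).symm.trans (hWe c hc))
  · rintro E - ⟨-, hev, heh⟩ c hc hi hj
    refine eq_of_mul_eq_mul (hcart (c.1 - 1, c.2 - 1) (HilbD.mem_left (HilbD.mem_up hc))) ?_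
    have h1 : Z c hc = _ := hev c hc hi
    rw [heh (c.1 - 1, c.2) (HilbD.mem_up hc) hj] at h1
    have h2 : Z c hc = _ := heh c hc hj
    rw [hev (c.1, c.2 - 1) (HilbD.mem_left hc) hi] at h2
    rw [HilbD.DnEdgeData.gammaOne, HilbD.DnEdgeData.gammaTwo, mul_comm (E.vert c hc hi),
      mul_comm (E.horiz c hc hj), ← mul_assoc, ← mul_assoc]
    exact h1.symm.trans h2

section Build

variable (E : HilbD.DnEdgeData μ X)

/-- The flag with given edges, along the first row and then down the columns. -/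
noncomputable def flagOf : ℕ → ℕ → X.IdealSheafData
  | 0, 0 => E.base
  | 0, j + 1 => flagOf 0 j * (if h : ((0, j + 1) : ℕ × ℕ) ∈ μ then E.horiz _ h (Nat.le_add_left 1 j) else ⊤)
  | i + 1, j => flagOf i j * (if h : ((i + 1, j) : ℕ × ℕ) ∈ μ then E.vert _ h (Nat.le_add_left 1 i) else ⊤)

omit f in
theorem flagOf_succ_left {i j : ℕ} (hc : ((i + 1, j) : ℕ × ℕ) ∈ μ) :
    flagOf E (i + 1) j = flagOf E i j * E.vert (i + 1, j) hc (Nat.le_add_left 1 i) := by
  rw [flagOf, dif_pos hc]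

/-- Edge data with commuting squares comes from exactly one flag. -/
theorem existsUnique_flag (h00 : ((0, 0) : ℕ × ℕ) ∈ μ) (hn : HilbD.IsRevPlanePartition μ n)
    (hE : E.IsOfType f n)
    (hcomm : ∀ (c : ℕ × ℕ) (hc : c ∈ μ) (hi : 1 ≤ c.1) (hj : 1 ≤ c.2),
      E.gammaOne c hc hi hj ≤ E.gammaTwo c hc hi hj) :
    ∃! Z : ∀ c : ℕ × ℕ, c ∈ μ → X.IdealSheafData, HilbD.IsDnFlag f μ n Z ∧ E.IsEdgesOf h00 Z := by
  obtain ⟨hEb, hEv, hEh⟩ := hE
  have hmono : ∀ {a b : ℕ × ℕ}, a ∈ μ → b ∈ μ → a ≤ b → n a ≤ n b := fun ha hb h => hn ha hb h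
  have hdown : ∀ {a b : ℕ × ℕ}, a ≤ b → b ∈ μ → a ∈ μ := fun h hb => μ.isLowerSet h hb
  have hγ : ∀ (i j : ℕ) (hc : ((i + 1, j + 1) : ℕ × ℕ) ∈ μ),
      E.gammaOne _ hc (Nat.le_add_left 1 i) (Nat.le_add_left 1 j) =
        E.gammaTwo _ hc (Nat.le_add_left 1 i) (Nat.le_add_left 1 j) := fun i j hc => by
    have hu : ((i, j + 1) : ℕ × ℕ) ∈ μ := HilbD.mem_up hc
    have hl : ((i + 1, j) : ℕ × ℕ) ∈ μ := HilbD.mem_left hc
    have hul : ((i, j) : ℕ × ℕ) ∈ μ := HilbD.mem_left hu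
    have m1 : n (i, j + 1) ≤ n (i + 1, j + 1) := hmono hu hc ⟨Nat.le_succ i, le_rfl⟩
    have m2 : n (i, j) ≤ n (i, j + 1) := hmono hul hu ⟨le_rfl, Nat.le_succ j⟩
    have m3 : n (i + 1, j) ≤ n (i + 1, j + 1) := hmono hl hc ⟨le_rfl, Nat.le_succ j⟩
    have m4 : n (i, j) ≤ n (i + 1, j) := hmono hul hl ⟨Nat.le_succ i, le_rfl⟩
    refine eq_of_le_of_divOfDeg f (d := n (i + 1, j + 1) - n (i, j)) (hcomm _ hc _ _) ?_ ?_
    · convert finLocFreeOfDeg_mul f (hEv _ hc (Nat.le_add_left 1 i)) (hEh _ hu (Nat.le_add_left 1 j)) using 2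
      · simp only [Nat.add_sub_cancel]
        omega
      · rfl
    · convert finLocFreeOfDeg_mul f (hEh _ hc (Nat.le_add_left 1 j)) (hEv _ hl (Nat.le_add_left 1 i)) using 2
      · simp only [Nat.add_sub_cancel]
        omega
      · rfl
  have hright : ∀ (i j : ℕ) (hc : ((i, j + 1) : ℕ × ℕ) ∈ μ),
      flagOf E i (j + 1) = flagOf E i j * E.horiz (i, j + 1) hc (Nat.le_add_left 1 j) := by
    intro i
    induction i with
    | zero => intro j hc; rw [flagOf, dif_pos hc]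
    | succ i ih =>
      intro j hc
      have hu : ((i, j + 1) : ℕ × ℕ) ∈ μ := HilbD.mem_up hc
      have hl : ((i + 1, j) : ℕ × ℕ) ∈ μ := HilbD.mem_left hc
      rw [flagOf_succ_left E hc, ih j hu, flagOf_succ_left E hl, mul_assoc, mul_assoc]
      congr 1
      rw [mul_comm, mul_comm (E.vert (i + 1, j) hl _)]
      exact hγ i j hc
  have hdeg : ∀ (i j : ℕ), ((i, j) : ℕ × ℕ) ∈ μ → HilbD.IsDivOfDeg f (n (i, j)) (flagOf E i j) := by
    intro i
    induction i with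
    | zero =>
      intro j
      induction j with
      | zero => intro _; rw [flagOf]; exact hEb
      | succ j ih =>
        intro hc
        have hp : ((0, j) : ℕ × ℕ) ∈ μ := HilbD.mem_left hc
        rw [hright 0 j hc]
        convert finLocFreeOfDeg_mul f (ih hp) (hEh _ hc (Nat.le_add_left 1 j)) using 2
        have := hmono hp hc ⟨le_rfl, Nat.le_succ j⟩
        simp only [Nat.add_sub_cancel]
        omega
    | succ i ih =>
      intro j hc
      have hp : ((i, j) : ℕ × ℕ) ∈ μ := HilbD.mem_up hc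
      rw [flagOf_succ_left E hc]
      convert finLocFreeOfDeg_mul f (ih j hp) (hEv _ hc (Nat.le_add_left 1 i)) using 2
      have := hmono hp hc ⟨Nat.le_succ i, le_rfl⟩
      simp only [Nat.add_sub_cancel]
      omega
  have hle : ∀ (a b i j : ℕ), ((i + a, j + b) : ℕ × ℕ) ∈ μ → flagOf E (i + a) (j + b) ≤ flagOf E i j := by
    intro a
    induction a with
    | zero =>
      intro b
      induction b with
      | zero => intro i j _; exact le_rfl
      | succ b ih =>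
        intro i j hc
        have hc' : ((i, j + b + 1) : ℕ × ℕ) ∈ μ := hc
        rw [← add_assoc, Nat.add_zero, hright i (j + b) hc']
        exact le_trans (fun U => Ideal.mul_le_left) (ih i j (HilbD.mem_left hc'))
    | succ a ih =>
      intro b i j hc
      have hc' : ((i + a + 1, j + b) : ℕ × ℕ) ∈ μ := hc
      rw [← add_assoc, flagOf_succ_left E hc']
      exact le_trans (fun U => Ideal.mul_le_left) (ih b i j (HilbD.mem_up hc'))
  refine ⟨fun c _ => flagOf E c.1 c.2,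
    ⟨⟨fun c hc => hdeg c.1 c.2 hc, ?_⟩, ?_, ?_, ?_⟩, ?_⟩
  · rintro ⟨i, j⟩ ⟨i', j'⟩ hc hc' ⟨hi, hj⟩
    obtain ⟨a, rfl⟩ := Nat.exists_eq_add_of_le hi
    obtain ⟨b, rfl⟩ := Nat.exists_eq_add_of_le hj
    exact hle a b i j hc'
  · show flagOf E 0 0 = E.base
    rw [flagOf]
  · rintro ⟨i, j⟩ hc hi
    obtain ⟨i, rfl⟩ : ∃ k, i = k + 1 := ⟨i - 1, (Nat.sub_add_cancel hi).symm⟩
    exact flagOf_succ_left E hc
  · rintro ⟨i, j⟩ hc hj
    obtain ⟨j, rfl⟩ : ∃ k, j = k + 1 := ⟨j - 1, (Nat.sub_add_cancel hj).symm⟩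
    exact hright i j hc
  · rintro Z ⟨-, hb, hv, hh⟩
    funext c hc
    obtain ⟨i, j⟩ := c
    induction i generalizing j with
    | zero =>
      induction j with
      | zero => show Z (0, 0) hc = flagOf E 0 0; rw [flagOf]; exact hb
      | succ j ih =>
        have hp : ((0, j) : ℕ × ℕ) ∈ μ := HilbD.mem_left hc
        refine (hh (0, j + 1) hc (Nat.le_add_left 1 j)).trans ?_
        show _ = flagOf E 0 (j + 1)
        rw [hright 0 j hc]
        exact congrArg (· * _) (ih hp)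
    | succ i ih =>
      have hp : ((i, j) : ℕ × ℕ) ∈ μ := HilbD.mem_up hc
      refine (hv (i + 1, j) hc (Nat.le_add_left 1 i)).trans ?_
      show _ = flagOf E (i + 1) j
      rw [flagOf_succ_left E hc]
      exact congrArg (· * _) (ih j hp)

end Build

end Groth.Agent.H27CurveDiv
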