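/-
The map adding a point to a relative divisor is finite locally free.
-/
import Groth.Agent.H27CurveDiv.Flag
import Groth.Agent.H27HilbOps.Basic

set_option autoImplicit false
set_option linter.style.haveILetI false

universe u

open CategoryTheory CategoryTheory.Limits AlgebraicGeometry
open H29Blow

namespace Groth.Agent.H27CurveDiv

variable {X S : Scheme.{u}} (f : X ⟶ S) [SmoothOfRelativeDimension 1 f]

include f in
theorem smooth_XTproj (T : Over S) : SmoothOfRelativeDimension 1 (PicF.XTproj f T) :=
  haveI := smoothOfRelativeDimension_isStableUnderBaseChange.{u} (n := 1)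
  MorphismProperty.pullback_snd (P := @SmoothOfRelativeDimension 1) f T.hom inferInstance

set_option backward.isDefEq.respectTransparency false in
set_option backward.isDefEq.respectTransparency.types false in
/-- Adding the point identifies `H ×_S X` with the universal divisor of degree `d + 1`. -/
theorem addPoint_finLocFree [IsSeparated f] (d : ℕ) (H : Over S) (Z : HilbD.Obj f d H)
    (hZ : HilbD.IsUniversal f d H Z) (H' : Over S) (Z' : HilbD.Obj f (d + 1) H')
    (hZ' : HilbD.IsUniversal f (d + 1) H' Z')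
    (m : Over.mk (pullback.fst H.hom f ≫ H.hom) ⟶ H')
    (hm : HilbD.pull f m Z'.1 =
      HilbD.pull f (Over.homMk (pullback.fst H.hom f) rfl : Over.mk (pullback.fst H.hom f ≫ H.hom) ⟶ H) Z.1 *
        HilbD.secGraph f (Over.mk (pullback.fst H.hom f ≫ H.hom)) (pullback.snd H.hom f) pullback.condition.symm) :
    Mor2.IsFinLocFreeOfDeg (d + 1) m.left := by
  let T : Over S := Over.mk (pullback.fst H.hom f ≫ H.hom)
  let pr : T ⟶ H := Over.homMk (pullback.fst H.hom f) rfl
  let xT : T.left ⟶ X := pullback.snd H.hom f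
  have hxT : xT ≫ f = T.hom := pullback.condition.symm
  let q : Z'.1.subscheme ⟶ H'.left := Z'.1.subschemeι ≫ PicF.XTproj f H'
  let D : Over S := Over.mk (q ≫ H'.hom)
  let g : D ⟶ H' := Over.homMk q rfl
  let y : D.left ⟶ X := Z'.1.subschemeι ≫ pullback.fst f H'.hom
  have hy : y ≫ f = D.hom := by
    show (Z'.1.subschemeι ≫ pullback.fst f H'.hom) ≫ f = q ≫ H'.hom
    rw [Category.assoc, pullback.condition, Category.assoc]
  -- the tautological point
  have htaut : HilbD.pull f g Z'.1 ≤ HilbD.secGraph f D y hy := by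
    rw [H27HilbOne.pull_eq_comap, HilbD.secGraph, ← Scheme.IdealSheafData.le_map_iff_comap_le,
      Scheme.IdealSheafData.map_ker, ← H27HilbOps.exists_lift_subschemeι_iff]
    refine ⟨𝟙 _, ?_⟩
    apply pullback.hom_ext <;> simp [PicF.XTmap, y, g, q, D]
    exact (Category.id_comp _).symm
  haveI := smooth_XTproj f D
  obtain ⟨K, hK, hKe⟩ := exists_finLocFreeOfDeg_sub (PicF.XTproj f D) htaut
    (H27HilbOne.graphObj f D y hy).2 (H27HilbOps.pullObj f g Z').2
  rw [Nat.add_sub_cancel] at hK
  obtain ⟨h, hh, -⟩ := hZ D ⟨K, hK⟩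
  let v : D.left ⟶ T.left := pullback.lift h.left y (by rw [Over.w h, hy])
  let vO : D ⟶ T := Over.homMk v (by
    show pullback.lift h.left y _ ≫ pullback.fst H.hom f ≫ H.hom = D.hom
    rw [pullback.lift_fst_assoc, Over.w h])
  have hvm : vO ≫ m = g := by
    refine (hZ' D (H27HilbOps.pullObj f g Z')).unique ?_ rfl
    show HilbD.pull f (vO ≫ m) Z'.1 = HilbD.pull f g Z'.1
    have hpr : vO ≫ pr = h := by
      apply Over.OverMorphism.ext
      exact pullback.lift_fst _ _ _
    rw [H27HilbOps.pull_comp, hm, H27HilbOne.pull_eq_comap, comap_mul,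
      ← H27HilbOne.pull_eq_comap, ← H27HilbOne.pull_eq_comap, ← H27HilbOps.pull_comp, hpr, hh,
      H27HilbOne.pull_secGraph, hKe, mul_comm]
    congr 2
    exact pullback.lift_snd _ _ _
  -- the point of the universal divisor
  have hu : ∃ u : T.left ⟶ Z'.1.subscheme, u ≫ Z'.1.subschemeι =
      pullback.lift xT m.left (by rw [hxT, Over.w m]) := by
    rw [H27HilbOps.exists_lift_subschemeι_iff,
      show pullback.lift xT m.left _ = pullback.lift xT (𝟙 T.left) (by simpa using hxT) ≫
          PicF.XTmap f m by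
          apply pullback.hom_ext <;> simp [PicF.XTmap]
          exact (Category.id_comp _).symm,
      ← Scheme.IdealSheafData.map_ker, Scheme.IdealSheafData.le_map_iff_comap_le,
      ← H27HilbOne.pull_eq_comap]
    refine le_of_eq_of_le hm ?_
    exact fun U => Ideal.mul_le_right
  obtain ⟨u, hu⟩ := hu
  have hum : u ≫ q = m.left := by
    simp only [q]
    rw [reassoc_of% hu]
    exact pullback.lift_snd _ _ _
  let uO : T ⟶ D := Over.homMk u (by
    show u ≫ q ≫ H'.hom = T.hom
    rw [reassoc_of% hum, Over.w m])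
  have huy : u ≫ y = xT := by
    simp only [y]
    rw [reassoc_of% hu]
    exact pullback.lift_fst _ _ _
  have hug : uO ≫ g = m := Over.OverMorphism.ext hum
  have h1 : HilbD.pull f uO K = HilbD.pull f pr Z.1 := by
    haveI := smooth_XTproj f T
    refine eq_of_mul_eq_mul (isEffCartierIdeal_of_divOfDeg (PicF.XTproj f T)
      (H27HilbOne.graphObj f T xT hxT).2) ?_
    have e := congrArg (HilbD.pull f uO) hKe
    rw [← H27HilbOps.pull_comp, hug, hm, H27HilbOne.pull_eq_comap f uO (_ * _), comap_mul,
      ← H27HilbOne.pull_eq_comap, ← H27HilbOne.pull_eq_comap, H27HilbOne.pull_secGraph] at e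
    refine Eq.trans ?_ (e.symm.trans (mul_comm _ _))
    congr 1
    · show HilbD.secGraph f T xT hxT = _
      congr 1
      exact huy.symm
  have hhu : u ≫ h.left = pullback.fst H.hom f := by
    have e : uO ≫ h = pr := (hZ T (H27HilbOps.pullObj f pr Z)).unique
      (by show HilbD.pull f (uO ≫ h) Z.1 = HilbD.pull f pr Z.1; rw [H27HilbOps.pull_comp, hh]; exact h1) rfl
    exact congr($(e).left)
  have huv : u ≫ v = 𝟙 _ := by
    apply pullback.hom_ext
    · simp only [v, Category.assoc, Category.id_comp]
      rw [pullback.lift_fst, hhu]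
    · simp only [v, Category.assoc, Category.id_comp]
      rw [pullback.lift_snd, huy]
  have hvu : v ≫ u = 𝟙 _ := by
    rw [← cancel_mono Z'.1.subschemeι, Category.assoc, hu, Category.id_comp]
    apply pullback.hom_ext
    · rw [Category.assoc, pullback.lift_fst]
      exact pullback.lift_snd _ _ _
    · rw [Category.assoc, pullback.lift_snd]
      exact congr($(hvm).left)
  haveI : IsIso u := ⟨⟨v, huv, hvu⟩⟩
  obtain ⟨⟨hf, hfl, hp⟩, hd⟩ := Z'.2
  rw [← hum]
  refine ⟨⟨MorphismProperty.RespectsIso.precomp _ u q hf, MorphismProperty.RespectsIso.precomp _ u q hfl,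
    MorphismProperty.RespectsIso.precomp _ u q hp⟩, fun z => ?_⟩
  rw [Scheme.Hom.finrank_comp_left_of_isIso]
  exact hd z

end Groth.Agent.H27CurveDiv
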