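/-
The schemes of relative divisors of a smooth relative curve are smooth.
-/
import Groth.Agent.H27CurveDiv.AddPoint
import Groth.Agent.S0115

set_option autoImplicit false
set_option linter.style.haveILetI false

universe u

open CategoryTheory CategoryTheory.Limits AlgebraicGeometry
open H29Blow

namespace Groth.Agent.H27CurveDiv

variable {X S : Scheme.{u}} (f : X ⟶ S)

/-- A divisor of degree zero is empty. -/
theorem eq_top_of_deg_zero {A B : Scheme.{u}} (p : A ⟶ B) {I : A.IdealSheafData}
    (h : Mor2.IsFinLocFreeOfDeg 0 (I.subschemeι ≫ p)) : I = ⊤ := by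
  obtain ⟨⟨hfin, hfl, hp⟩, hd⟩ := h
  rw [← Scheme.IdealSheafData.support_eq_bot_iff]
  refine TopologicalSpace.Closeds.ext (Set.eq_empty_iff_forall_notMem.mpr fun x hx => ?_)
  obtain ⟨z, -⟩ := H3CAlg.IntLocal.exists_point I hx
  have := Scheme.Hom.one_le_finrank_map (I.subschemeι ≫ p) z
  rw [hd] at this
  omega

/-- `Hilb^0` is the base. -/
theorem isIso_hom_of_deg_zero (H : Over S) (Z : HilbD.Obj f 0 H)
    (hZ : HilbD.IsUniversal f 0 H Z) : IsIso H.hom := by
  haveI : IsEmpty (⊤ : (PicF.XT f (Over.mk (𝟙 S))).IdealSheafData).subscheme := by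
    refine ⟨fun z => ?_⟩
    have hz := Set.mem_range_self (f := (⊤ : (PicF.XT f (Over.mk (𝟙 S))).IdealSheafData).subschemeι) z
    rw [Scheme.IdealSheafData.range_subschemeι, Scheme.IdealSheafData.support_top] at hz
    exact hz
  have htop : Mor2.IsFinLocFreeOfDeg 0
      ((⊤ : (PicF.XT f (Over.mk (𝟙 S))).IdealSheafData).subschemeι ≫ PicF.XTproj f (Over.mk (𝟙 S))) := by
    refine ⟨⟨inferInstance, inferInstance, inferInstance⟩, fun y => ?_⟩
    set q := (⊤ : (PicF.XT f (Over.mk (𝟙 S))).IdealSheafData).subschemeι ≫ PicF.XTproj f (Over.mk (𝟙 S))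
    set k := Scheme.fromSpecResidueField _ y
    obtain ⟨z, hz⟩ : ∃ z, k z = y := ⟨IsLocalRing.closedPoint _, Scheme.fromSpecResidueField_apply _ _⟩
    rw [← hz, ← Scheme.Hom.finrank_pullback_snd q k z]
    by_contra h
    have : Surjective (pullback.snd q k) := by
      rw [← Scheme.Hom.one_le_finrank_iff_surjective]
      intro z'
      rw [Subsingleton.elim (α := PrimeSpectrum _) z' z]
      exact Nat.one_le_iff_ne_zero.mpr h
    obtain ⟨w, -⟩ := this.surj z
    exact IsEmpty.false (pullback.fst q k w)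
  obtain ⟨g, hg, -⟩ := hZ (Over.mk (𝟙 S)) ⟨⊤, htop⟩
  let π : H ⟶ Over.mk (𝟙 S) := Over.homMk H.hom (Category.comp_id _)
  have h : π ≫ g = 𝟙 H := (hZ H Z).unique
    (by
      show HilbD.pull f (π ≫ g) Z.1 = Z.1
      rw [eq_top_of_deg_zero _ Z.2, H27HilbOne.pull_eq_comap, Scheme.IdealSheafData.comap_top])
    (H27HilbOps.pull_id f Z.1)
  exact ⟨⟨g.left, congr($(h).left), Over.w g⟩⟩

variable [SmoothOfRelativeDimension 1 f]

/-- The scheme of relative divisors of degree `d` is smooth. -/
theorem smooth_of_isUniversal [IsSeparated f] : ∀ (d : ℕ)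
    (_ : ∀ e : ℕ, e < d → HilbD.Representable f e) (H : Over S) (Z : HilbD.Obj f d H),
      HilbD.IsUniversal f d H Z → Smooth H.hom := by
  intro d
  induction d with
  | zero =>
    intro _ H Z hZ
    haveI := isIso_hom_of_deg_zero f H Z hZ
    infer_instance
  | succ d ih =>
    intro hrep H' Z' hZ'
    obtain ⟨H, Z, hZ⟩ := hrep d (Nat.lt_succ_self d)
    haveI := ih (fun e he => hrep e (he.trans (Nat.lt_succ_self d))) H Z hZ
    let T : Over S := Over.mk (pullback.fst H.hom f ≫ H.hom)
    let pr : T ⟶ H := Over.homMk (pullback.fst H.hom f) rfl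
    haveI := smooth_XTproj f T
    have hsum := finLocFreeOfDeg_mul (PicF.XTproj f T) (H27HilbOps.pullObj f pr Z).2
      (H27HilbOne.graphObj f T (pullback.snd H.hom f) pullback.condition.symm).2
    obtain ⟨m, hm, -⟩ := hZ' T ⟨_, hsum⟩
    have h := addPoint_finLocFree f d H Z hZ H' Z' hZ' m hm
    obtain ⟨⟨hf, hfl, hp⟩, hd⟩ := h
    haveI := hfl; haveI := hp; haveI := hf
    haveI : Surjective m.left := by
      rw [← Scheme.Hom.one_le_finrank_iff_surjective]
      intro y
      rw [hd]
      exact Nat.le_add_left 1 d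
    haveI : Smooth f := SmoothOfRelativeDimension.smooth 1 f
    haveI : Smooth (m.left ≫ H'.hom) := by
      rw [Over.w m]
      show Smooth (pullback.fst H.hom f ≫ H.hom)
      infer_instance
    exact S0115.result m.left H'.hom

end Groth.Agent.H27CurveDiv
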