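/-
The Hilbert schemes of points of a smooth proper curve.
-/
import Groth.Agent.H27CurveDiv.Smooth
import Groth.Agent.H27CurveDiv.RelDim
import Groth.Agent.S1166
import Groth.Agent.S1167
import Groth.Agent.S1551
import Groth.Agent.H13Desc.Eff.FinLocFreeApps
import Groth.Prelude.Def_Curve

set_option autoImplicit false
set_option linter.style.haveILetI false

universe u

open CategoryTheory CategoryTheory.Limits AlgebraicGeometry

namespace Groth.Agent.H27CurveDiv

/-- The scheme of relative divisors of a proper curve is proper. -/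
theorem isProper_of_isUniversal {X S : Scheme.{u}} (f : X ⟶ S) [SmoothOfRelativeDimension 1 f]
    [IsProper f] : ∀ (d : ℕ) (_ : ∀ e : ℕ, HilbD.Representable f e) (H : Over S)
      (Z : HilbD.Obj f d H), HilbD.IsUniversal f d H Z → IsProper H.hom := by
  intro d
  induction d with
  | zero =>
    intro _ H Z hZ
    haveI := isIso_hom_of_deg_zero f H Z hZ
    infer_instance
  | succ d ih =>
    intro hrep H' Z' hZ'
    obtain ⟨H, Z, hZ⟩ := hrep d
    haveI := ih hrep H Z hZ
    haveI := smooth_of_isUniversal f (d + 1) (fun e _ => hrep e) H' Z' hZ'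
    let T : Over S := Over.mk (pullback.fst H.hom f ≫ H.hom)
    let pr : T ⟶ H := Over.homMk (pullback.fst H.hom f) rfl
    haveI := smooth_XTproj f T
    have hsum := finLocFreeOfDeg_mul (PicF.XTproj f T) (H27HilbOps.pullObj f pr Z).2
      (H27HilbOne.graphObj f T (pullback.snd H.hom f) pullback.condition.symm).2
    obtain ⟨m, hm, -⟩ := hZ' T ⟨_, hsum⟩
    obtain ⟨⟨hf, hfl, hp⟩, hd⟩ := addPoint_finLocFree f d H Z hZ H' Z' hZ' m hm
    haveI := hfl; haveI := hp; haveI := hf
    haveI : Surjective m.left := by
      rw [← Scheme.Hom.one_le_finrank_iff_surjective]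
      intro y
      rw [hd]
      exact Nat.le_add_left 1 d
    haveI : UniversallyClosed (m.left ≫ H'.hom) := by
      rw [Over.w m]
      show UniversallyClosed (pullback.fst H.hom f ≫ H.hom)
      infer_instance
    haveI : UniversallyClosed H'.hom := UniversallyClosed.of_comp_surjective m.left H'.hom
    haveI : IsSeparated H'.hom := S1167.result f (d + 1) H' Z' hZ'
    exact {}

/-- The Hilbert schemes of points of a smooth proper curve over a field. -/
theorem exists_proper_smooth {k : Type u} [Field k] {X : Scheme.{u}}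
    (f : X ⟶ Spec (CommRingCat.of k)) (hX : Curve.IsSmoothProperCurve k X f) (d : ℕ) :
    ∃ (H : Over (Spec (CommRingCat.of k))) (Z : HilbD.Obj f d H),
      HilbD.IsUniversal f d H Z ∧ IsProper H.hom ∧ Smooth H.hom := by
  obtain ⟨hp, hs, hint, hdim⟩ := hX
  haveI := smoothOfRelativeDimension_of_dim f 1 hdim
  haveI : IsLocallyNoetherian X := LocallyOfFiniteType.isLocallyNoetherian f
  haveI : CompactSpace X := QuasiCompact.compactSpace_of_compactSpace f
  haveI : IsNoetherian X := {}
  haveI : X.IsSeparated := ⟨by rw [← terminal.comp_from f]; infer_instance⟩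
  obtain ⟨L, hL⟩ := S1551.result X hdim
  have hrep : ∀ e : ℕ, HilbD.Representable f e := fun e => by
    classical
    refine S1166.result f e fun s x _ => ?_
    obtain ⟨U, hU, hmem⟩ := H13Desc.Eff.exists_affine_of_isAmple hL (Finset.univ.image x)
    exact ⟨U, hU, fun i => hmem _ (Finset.mem_image_of_mem x (Finset.mem_univ i))⟩
  obtain ⟨H, Z, hZ⟩ := hrep d
  exact ⟨H, Z, hZ, isProper_of_isUniversal f d hrep H Z hZ,
    smooth_of_isUniversal f d (fun e _ => hrep e) H Z hZ⟩

end Groth.Agent.H27CurveDiv
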